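import Cfsg.Agent.H107.NB.OrthTor_m3
import Cfsg.Agent.H665.NoPQ
import Cfsg.Agent.H7.NBpCount
import Cfsg.Agent.LThreeFi22.Inst
import Cfsg.Agent.H841.Phi_m3
import Cfsg.Agent.H843.OCSporB
import Cfsg.Agent.H419.Spor.Fi
import Cfsg.Agent.FastGrp
import Cfsg.Agent.Prune
set_option linter.all false

section
prune_inst 0x7f00000000000000000000000000000000000000000000000000000000000000000000000000000000000000000000000000000000000000000000000000000000000000000000000000000000000000003fffffffffffffffffffffffffffbeffbdffffffff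

-- part: H978/NB/DZ
section
set_option linter.all false
open scoped Cfsg.Agent.FastGrp

/-!
# S5003: a nonprincipal block from `HasDZ` (helper978)
-/

set_option autoImplicit false

namespace Cfsg.Agent.H978.NB

open Cfsg Subgroup Cfsg.Agent.H7.NBp Cfsg.Agent.H665.NoPQ

/-- a character of `p`-defect zero, `p ∣ |G|` -/
theorem nb_of_hasDZ {p : ℕ} [hp : Fact p.Prime] {G : Type*} [Group G] [Finite G] (hpG : p ∣ Nat.card G)
    (h : HasDZ p G) : NB p G := by
  obtain ⟨χ, hχ⟩ := h
  have hpos := Nat.card_pos (α := G)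
  have hd := Blocks.Knorr.charDegree_dvd χ.2
  refine NB.of_dz' χ ?_ ?_
  · intro h1
    rw [h1, Nat.factorization_one] at hχ
    have h2 := hp.out.factorization_pos_of_dvd hpos.ne' hpG
    rw [← hχ] at h2
    exact lt_irrefl _ h2
  · intro h2
    have h3 := Nat.div_pos (Nat.le_of_dvd hpos hd) (Nat.pos_of_dvd_of_pos hd hpos)
    have h4 := hp.out.factorization_pos_of_dvd h3.ne' h2
    rw [Nat.factorization_div hd, Finsupp.tsub_apply, hχ, Nat.sub_self] at h4
    exact lt_irrefl _ h4

end Cfsg.Agent.H978.NB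
end

-- part: H978/NB/Fi24
section
set_option linter.all false
open scoped Cfsg.Agent.FastGrp

-- part: H978/NB/ThreeTr
section
/-!
# S5003: 3-transposition groups, `p ≥ 5` (helper978)
-/

set_option autoImplicit false

namespace Cfsg.Agent.H978.NB

open Cfsg Subgroup Cfsg.Agent.H7.NBp

/-- for `p ≥ 5` a product `d e` of two 3-transpositions is a `p`-element only for `d = e` -/
theorem nb_of_three {p : ℕ} [hp : Fact p.Prime] (h2 : p ≠ 2) (h3 : p ≠ 3) {G : Type*} [Group G] [Finite G] {T : Set G}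
    (hT : ∀ t ∈ T, ∀ g : G, g * t * g⁻¹ ∈ T) (hsq : ∀ t ∈ T, t * t = 1) {d : G} (hd : d ∈ T) (hd1 : d ≠ 1)
    (three : ∀ a ∈ T, ∀ b ∈ T, a * b = b * a ∨ a * b * a = b * a * b) : NB p G := by
  have key : ∀ (x : G) (n j : ℕ), Nat.Coprime n p → x ^ n = 1 → x ^ p ^ j = 1 → x = 1 := by
    intro x n j hn h h'
    have h4 := Nat.dvd_gcd (orderOf_dvd_of_pow_eq_one h) (orderOf_dvd_of_pow_eq_one h')
    have h5 : Nat.gcd n (p ^ j) = 1 := Nat.Coprime.pow_right j hn
    rw [h5, Nat.dvd_one] at h4
    exact orderOf_eq_one_iff.1 h4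
  have c2 : Nat.Coprime 2 p := (Nat.coprime_primes Nat.prime_two hp.out).2 h2.symm
  have c3 : Nat.Coprime 3 p := (Nat.coprime_primes Nat.prime_three hp.out).2 h3.symm
  refine NB.of_unique (g := d) (fun g k hk => hT k hk g) ?_ hd ?_
  · rintro ⟨j, hj⟩
    exact hd1 (key d 2 j c2 (by rw [pow_two]; exact hsq d hd) hj)
  · intro k hk j hj
    have hki : k⁻¹ = k := inv_eq_of_mul_eq_one_left (hsq k hk)
    rw [hki] at hj
    have h1 : d * k = 1 := by
      rcases three d hd k hk with h | h
      · refine key _ 2 j c2 ?_ hj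
        calc (d * k) ^ 2 = d * k * (d * k) := pow_two _
          _ = d * k * (k * d) := by rw [h]
          _ = d * (k * k) * d := by group
          _ = 1 := by rw [hsq k hk, mul_one, hsq d hd]
      · refine key _ 3 j c3 ?_ hj
        calc (d * k) ^ 3 = (d * k * d) * (k * d * k) := by rw [pow_succ, pow_two]; group
          _ = (k * d * k) * (k * d * k) := by rw [h]
          _ = k * d * (k * k) * d * k := by group
          _ = k * (d * d) * k := by rw [hsq k hk]; group
          _ = 1 := by rw [hsq d hd, mul_one, hsq k hk]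
    rw [mul_eq_one_iff_inv_eq] at h1
    rw [← h1]
    exact inv_eq_of_mul_eq_one_left (hsq d hd)

end Cfsg.Agent.H978.NB
end

-- part: H978/NB/Fi22
section
/-!
# S5003: the row `Fi₂₂` (helper978)
-/

set_option autoImplicit false

namespace Cfsg.Agent.H978.NB

open Cfsg Subgroup Cfsg.Agent.H7.NBp Cfsg.Agent.H718.NBIH Cfsg.Agent.LThreeFi22

/-- elements of prime order in a centralizer -/
theorem exists_comm_of_dvd {S : Type*} [Group S] [Finite S] {y : S} {r : ℕ} (hr : r.Prime)
    (h : r ∣ Nat.card ↥(centralizer ({y} : Set S))) : ∃ z : S, orderOf z = r ∧ z * y = y * z := by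
  have : Fact r.Prime := ⟨hr⟩
  obtain ⟨⟨z, hz⟩, ho⟩ := exists_prime_orderOf_dvd_card' (G := ↥(centralizer ({y} : Set S))) r h
  rw [Subgroup.orderOf_mk] at ho
  exact ⟨z, ho, mem_centralizer_singleton_iff.1 hz⟩

theorem nb_fi22 {p : ℕ} [hp : Fact p.Prime] (h2 : p ≠ 2) (S : Type) [Group S] [Finite S] [IsSimpleGroup S]
    (h : Spor.IsoFi22 S) (ih : IH p (Nat.card S)) : NB p S := by
  obtain ⟨e⟩ := h
  have C := LThreeFi22.Inst.ctx e
  obtain ⟨a, ha, b, hb, -, -, hab, -⟩ := C.mupos
  by_cases h3 : p = 3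
  · subst h3
    have hna : ¬ IsMulCommutative S := fun hc => hab (hc.is_comm.comm a b)
    have hcard := C.card_three ha hb hab
    have hy3 : (a * b) ^ 3 = 1 := C.cube ha hb hab
    have hy1 : a * b ≠ 1 := by
      intro h1
      rw [mul_eq_one_iff_inv_eq] at h1
      exact hab (by rw [← h1]; group)
    by_contra hnb
    obtain ⟨P, hP⟩ := exists_loc hna ih hnb ⟨1, by rw [pow_one]; exact hy3⟩ hy1
    have hd := card_dvd_of_le hP.le
    rw [hcard] at hd
    obtain ⟨z, hz, hzy⟩ := exists_comm_of_dvd (y := a * b) (r := 7) (by norm_num) (by rw [hcard]; norm_num)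
    obtain ⟨u, hu, huy⟩ := exists_comm_of_dvd (y := a * b) (r := 5) (by norm_num) (by rw [hcard]; norm_num)
    have hone : ∀ {w : S} {r m j : ℕ}, orderOf w = r → r.Prime → (∀ w : S, w ^ r = 1 → w ≠ 1 →
        ¬ 9 ∣ Nat.card ↥(centralizer ({w} : Set S))) → 1 ≤ m →
        Nat.card (P ⊓ centralizer ({w} : Set S) : Subgroup S) = 3 ^ m → m = 1 := by
      intro w r m j hw hr h9 hm hc
      by_contra hne
      refine h9 w (by rw [← hw, pow_orderOf_eq_one]) (by rintro rfl; rw [orderOf_one] at hw; exact hr.one_lt.ne hw) ?_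
      have h1 : Nat.card (P ⊓ centralizer ({w} : Set S) : Subgroup S) ∣ Nat.card ↥(centralizer ({w} : Set S)) :=
        card_dvd_of_le inf_le_right
      rw [hc] at h1
      exact (pow_dvd_pow 3 (show 2 ≤ m by omega)).trans h1
    obtain ⟨m, j, h1, h4, h5, h6, h7⟩ := hP.step hy1 (by norm_num) (by norm_num) hz hzy
    obtain ⟨n, i, g1, g4, g5, g6, g7⟩ := hP.step hy1 (by norm_num) (by norm_num) hu huy
    obtain rfl := hone (j := 0) hz (by norm_num) (fun w h h' => C.nine_seven h h') h1 h6
    obtain rfl := hone (j := 0) hu (by norm_num) (fun w h h' => C.nine_five h h') g1 g6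
    have hb : ∀ j : ℕ, Nat.card P = 3 ^ (1 + j) → j ≤ 6 := by
      intro j hj
      by_contra h8
      rw [hj] at hd
      have h9 := (pow_dvd_pow 3 (show 8 ≤ 1 + j by omega)).trans hd
      revert h9
      norm_num
    have h8 := hb j h5
    have g8 := hb i g5
    have h9 : 3 ^ (1 + j) = 3 ^ (1 + i) := by rw [← h5, ← g5]
    have h10 := Nat.pow_right_injective (le_refl 2 |>.trans (by norm_num : 2 ≤ 3)) h9
    clear hb h9 h5 g5 h6 g6
    interval_cases j <;> interval_cases i <;> omega
  · exact nb_of_three h2 h3 C.conj C.sq ha (C.ne1 a ha) C.three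

end Cfsg.Agent.H978.NB
end

-- part: H978/NB/Fi24
section
/-!
# S5003: the row `Fi₂₄'` (helper978)
-/

set_option autoImplicit false

namespace Cfsg.Agent.H978.NB

open Cfsg Subgroup Cfsg.Agent.H7.NBp Cfsg.Agent.H718.NBIH

namespace FiTF

open Cfsg.Agent.Fischer.Fi24RepDef Cfsg.Agent.Fischer.Fi24Rep Cfsg.Agent.Fischer.Y322 Cfsg.Agent.Fischer.Y322Iso
open Cfsg.Agent.R08.FiTwentyFour (index_commutator odd)
open Cfsg.Agent.H841.Five Cfsg.Agent.LThreeFi24.SNine
open Cfsg.Spor (Fi24 Fi24')

theorem mem_comm_of_odd {x : Fi24} {n : ℕ} (hn : Odd n) (h : x ^ n = 1) : x ∈ commutator Fi24 := by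
  obtain ⟨k, rfl⟩ := hn
  have h1 : x = (x ^ (k + 1)) ^ 2 := by
    rw [← pow_mul, show (k + 1) * 2 = (2 * k + 1) + 1 by ring, pow_succ, h, one_mul]
  rw [h1]
  exact sq_mem_of_index_two index_commutator _

theorem exists_five {r : ℕ} (hr : r = 3 ∨ r = 7) : ∃ y z : Fi24', orderOf y = 5 ∧ orderOf z = r ∧ z * y = y * z := by
  have hp : r.Prime := by rcases hr with rfl | rfl <;> norm_num
  have : Fact r.Prime := ⟨hp⟩
  have hodd : Odd r := by rcases hr with rfl | rfl <;> decide
  obtain ⟨σ, hσ⟩ := exists_prime_orderOf_dvd_card' (G := Equiv.Perm (Fin 9)) r (by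
    rw [Nat.card_perm, Nat.card_fin]
    rcases hr with rfl | rfl <;> decide)
  have h1 : orderOf (Phi σ) = r := by rw [orderOf_injective Phi Phi_injective, hσ]
  refine ⟨⟨y0, mem_comm_of_odd (n := 5) (by decide) (by exact Cfsg.Agent.LThreeFi24.FiveConj.e5)⟩,
    ⟨Phi σ, mem_comm_of_odd hodd (by rw [← h1, pow_orderOf_eq_one])⟩, ?_, ?_, Subtype.ext (Phi_comm_y0 σ)⟩
  · rw [Subgroup.orderOf_mk, Cfsg.Agent.LThreeFi24.FiveConj.orderOf_y0]
  · rw [Subgroup.orderOf_mk, h1]

theorem phi_mem_comm (x : H8) : Cfsg.Agent.H840.Lk.phi x ∈ commutator Fi24 := by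
  let q : H8 →* Fi24 ⧸ commutator Fi24 := (QuotientGroup.mk' (commutator Fi24)).comp Cfsg.Agent.H840.Lk.phi
  have hs := simple_H8
  have hq : q.ker = ⊤ := by
    rcases (inferInstance : q.ker.Normal).eq_bot_or_eq_top with h | h
    · exfalso
      have h1 : Nat.card H8 ∣ Nat.card (Fi24 ⧸ commutator Fi24) := by
        rw [Nat.card_congr (MonoidHom.ofInjective ((MonoidHom.ker_eq_bot_iff q).1 h)).toEquiv]
        exact card_subgroup_dvd_card _
      have h2 : Nat.card (Fi24 ⧸ commutator Fi24) = 2 := index_commutator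
      rw [h2, card_H8] at h1
      revert h1
      norm_num
    · exact h
  have h1 : x ∈ q.ker := by rw [hq]; exact mem_top x
  exact (QuotientGroup.eq_one_iff _).1 h1

theorem mem_lk : gen .l * gen .k ∈ commutator Fi24 :=
  (Subgroup.mul_mem_iff_of_index_two index_commutator).2 (iff_of_false (odd (Cfsg.Agent.H840.Lk.gen_mem .l))
    (odd (Cfsg.Agent.H840.Lk.gen_mem .k)))

theorem three [Finite Fi24'] (hS : IsSimpleGroup Fi24') (hna : ¬ IsMulCommutative Fi24') (ih : IH 3 (Nat.card Fi24')) :
    haveI : Fact (Nat.Prime 3) := ⟨Nat.prime_three⟩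
    NB 3 Fi24' := by
  have h3 : Fact (Nat.Prime 3) := ⟨Nat.prime_three⟩
  have hs := simple_H8
  have hf : Finite H8 := Nat.finite_of_card_ne_zero (by rw [card_H8]; norm_num)
  by_contra hnb
  let y : Fi24' := ⟨gen .l * gen .k, mem_lk⟩
  have hy : orderOf y = 3 := by
    rw [Subgroup.orderOf_mk, Cfsg.Agent.H843.OCSpor.order_lk]
  have hy1 : y ≠ 1 := by
    intro h
    rw [h, orderOf_one] at hy
    norm_num at hy
  obtain ⟨P, hP⟩ := exists_loc hna ih hnb ⟨1, by rw [pow_one, ← hy, pow_orderOf_eq_one]⟩ hy1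
  let f : H8 →* Fi24' := Cfsg.Agent.H840.Lk.phi.codRestrict (commutator Fi24) phi_mem_comm
  have hfi : Function.Injective f := fun a b hab => Cfsg.Agent.H840.Lk.phi_injective (congrArg Subtype.val hab)
  have hfc : ∀ x, f x * y = y * f x := by
    intro x
    apply Subtype.ext
    show Cfsg.Agent.H840.Lk.phi x * (gen .l * gen .k) = gen .l * gen .k * Cfsg.Agent.H840.Lk.phi x
    obtain ⟨h1, h2⟩ := Cfsg.Agent.H840.Lk.mem_Clk.1 (Cfsg.Agent.H840.Lk.B8_le_Clk (Cfsg.Agent.H840.Lk.phi_mem x))
    exact (Commute.mul_right h1 h2).eq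
  have h7 := hP.mul_dvd f hfi hfc (r := 7) (by norm_num) (by norm_num) (by rw [card_H8]; norm_num)
  have : Fact (Nat.Prime 7) := ⟨by norm_num⟩
  obtain ⟨x, hx⟩ := exists_prime_orderOf_dvd_card' (G := H8) 7 (by rw [card_H8]; norm_num)
  obtain ⟨m, j, h1, h2, h4, -, h5⟩ := hP.step hy1 (r := 7) (by norm_num) (by norm_num)
    (by rw [orderOf_injective f hfi, hx]) (hfc x)
  have hj : 6 ≤ j := by
    by_contra hj
    have hj5 : j ≤ 5 := by omega
    clear h4
    interval_cases j <;> omega
  have hC : Nat.card ↥(centralizer ({y} : Set Fi24')) ∣ 3 * 29713078886400 := by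
    have := Cfsg.Agent.H843.OCSpor.finite_fi24
    refine Dvd.dvd.trans ?_ Cfsg.Agent.H843.OCSpor.card_cent_lk_dvd
    rw [← card_map_of_injective (K := centralizer ({y} : Set Fi24')) (Subgroup.subtype_injective (commutator Fi24))]
    refine card_dvd_of_le ?_
    rintro _ ⟨x, hx, rfl⟩
    rw [mem_centralizer_singleton_iff]
    exact congrArg Subtype.val (mem_centralizer_singleton_iff.1 hx)
  have h8 := h7.trans hC
  rw [h4, card_H8] at h8
  have h9 := (mul_dvd_mul (pow_dvd_pow 3 (show 7 ≤ m + j by omega)) (dvd_refl 4585351680)).trans h8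
  revert h9
  norm_num

theorem main {p : ℕ} [hp : Fact p.Prime] (h2 : p ≠ 2) [Finite Fi24'] (hS : IsSimpleGroup Fi24')
    (ih : IH p (Nat.card Fi24')) : NB p Fi24' := by
  have hcard : Nat.card Fi24' = 1255205709190661721292800 := Cfsg.Agent.S1698.result.2
  have hna : ¬ IsMulCommutative Fi24' := by
    intro h
    have h1 : (Nat.card Fi24').Prime := by
      let _ : CommGroup Fi24' := { (inferInstance : Group Fi24') with mul_comm := fun a b => h.is_comm.comm a b }
      exact IsSimpleGroup.prime_card (α := Fi24')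
    rw [hcard] at h1
    norm_num at h1
  have hsub : ∀ (y : Fi24') (n : ℕ), ¬ n ∣ 1255205709190661721292800 → ¬ n ∣ Nat.card ↥(centralizer ({y} : Set Fi24')) := by
    intro y n hn h
    apply hn
    rw [← hcard]
    exact h.trans (card_subgroup_dvd_card _)
  by_cases hpd : p ∣ Nat.card Fi24'
  · have hpd' := hpd
    rw [hcard, show (1255205709190661721292800 : ℕ) = 2 ^ 21 * 3 ^ 16 * 5 ^ 2 * 7 ^ 3 * 11 * 13 * 17 * 23 * 29 by norm_num] at hpd'
    have hpr := hp.out
    have key : ∀ {q n : ℕ}, q.Prime → p ∣ q ^ n → p = q := fun hq h =>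
      (Nat.prime_dvd_prime_iff_eq hpr hq).1 (hpr.dvd_of_dvd_pow h)
    have key' : ∀ {q : ℕ}, q.Prime → p ∣ q → p = q := fun hq h => (Nat.prime_dvd_prime_iff_eq hpr hq).1 h
    rcases (hpr.dvd_mul).1 hpd' with hpd' | h
    · rcases (hpr.dvd_mul).1 hpd' with hpd' | h
      · rcases (hpr.dvd_mul).1 hpd' with hpd' | h
        · rcases (hpr.dvd_mul).1 hpd' with hpd' | h
          · rcases (hpr.dvd_mul).1 hpd' with hpd' | h
            · rcases (hpr.dvd_mul).1 hpd' with hpd' | h
              · rcases (hpr.dvd_mul).1 hpd' with hpd' | h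
                · rcases (hpr.dvd_mul).1 hpd' with h | h
                  · exact absurd (key Nat.prime_two h) h2
                  · obtain rfl := key Nat.prime_three h
                    exact three hS hna ih
                · obtain rfl := key (by norm_num) h
                  obtain ⟨y, z, hy, hz, hzy⟩ := exists_five (r := 3) (Or.inl rfl)
                  refine nb_of_commute hna ih (a := 2) hy (by norm_num) (by norm_num) hz hzy (hsub _ _ (by norm_num)) ?_
                  intro j h1 h2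
                  obtain rfl : j = 1 := by omega
                  norm_num
              · obtain rfl := key (by norm_num) h
                obtain ⟨y, z, hy, hz, hzy⟩ := exists_five (r := 7) (Or.inr rfl)
                refine nb_of_commute hna ih (a := 3) hz (by norm_num) (by norm_num) hy hzy.symm
                  (hsub _ _ (by norm_num)) ?_
                intro j h1 h2
                obtain rfl | rfl : j = 1 ∨ j = 2 := by omega
                · norm_num
                · norm_num
            · obtain rfl := key' (by norm_num) h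
              exact nb_of_hasDZ hpd Cfsg.Agent.H419.Spor.Fi.hasDZ_fi24'
          · obtain rfl := key' (by norm_num) h
            obtain ⟨t, a, b, Q, ht, htab⟩ := Cfsg.Agent.H713.Spor.FiTF.exists_pair
            obtain ⟨z, hz, hzt⟩ := exists_comm_of_dvd (y := t) (r := 13) (by norm_num)
              ((show 13 ∣ 2 * 64561751654400 by norm_num).trans (Cfsg.Agent.H713.Spor.FiTF.dvd_pair Q htab))
            refine nb_of_commute hna ih (a := 1) hz Nat.prime_two (by norm_num) ht hzt.symm
              (hsub _ _ (by norm_num)) ?_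
            intro j h1 h2
            omega
        · obtain rfl := key' (by norm_num) h
          exact nb_of_hasDZ hpd Cfsg.Agent.H713.Spor.FiTF.hasDZ_17
      · obtain rfl := key' (by norm_num) h
        exact nb_of_hasDZ hpd Cfsg.Agent.H713.Spor.FiTF.hasDZ_23
    · obtain rfl := key' (by norm_num) h
      exact nb_of_hasDZ hpd Cfsg.Agent.H713.Spor.FiTF.hasDZ_29
  · have : Nontrivial Fi24' := hS.toNontrivial
    exact NB.of_not_dvd hpd

end FiTF

theorem nb_fi24' {p : ℕ} [hp : Fact p.Prime] (h2 : p ≠ 2) (S : Type) [Group S] [Finite S] [IsSimpleGroup S]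
    (h : Spor.IsoFi24' S) (ih : IH p (Nat.card S)) : NB p S := by
  obtain ⟨e⟩ := h
  have hf : Finite Spor.Fi24' := Finite.of_equiv S e.toEquiv
  have hs : IsSimpleGroup Spor.Fi24' := e.symm.isSimpleGroup
  refine NB.iso e.symm (FiTF.main h2 hs ?_)
  rw [← Nat.card_congr e.toEquiv]
  exact ih

end Cfsg.Agent.H978.NB
end
end
end
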