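import Cfsg.Agent.H107.NB.OrthTor_m3
import Cfsg.Agent.H573.Spor.HSFive_m3
import Cfsg.Agent.H143.LeechNine
import Cfsg.Agent.H603.SporElim
import Cfsg.Agent.LThreeCo1.QEv
import Cfsg.Agent.FastGrp
import Cfsg.Agent.Prune
set_option linter.all false
prune_inst 0x7f00000000000000000000000000000000000000000000000000000000000000000000000000000000000000000000000000000000000000000000000000000000000000000000000000000000000000003fffffffffffffffffffffffffffbeffbdffffffff
open scoped Cfsg.Agent.FastGrp

-- part: H978/NB/Inv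
section
/-!
# S5003, `p = 3`: two commuting "reflections" in `C(y)` (helper978)

`nb_of_inv` : `y` of order 3; `z`, `z'` of prime order `r` and involutions `t`, `t'` in `C(y)`; `t` commutes with `z`,
`t'` with `z'`; the numbers force `|O_3(C(y))| = 3 ^ a` and `C_P(z) = ⟨y⟩`. Then `t` and `t'` invert `P / ⟨y⟩`, so
`t t'` is a 3-element.
-/

set_option autoImplicit false
set_option linter.unusedSectionVars false

namespace Cfsg.Agent.H978.NB

open Cfsg Subgroup Cfsg.Agent.H7.NBp Cfsg.Agent.H718.NBIH

section

variable {S : Type*} [Group S] [Finite S] {P : Subgroup S} {y z : S} {r a : ℕ}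

namespace Thr

variable (D : Thr P y z r a)
include D

/-- `t` inverts `P / ⟨y⟩` -/
theorem inverts {t : S} (ht2 : t * t = 1) (ht : t ∉ P) (hself : ∀ g, (∀ x ∈ P, g * x = x * g) → g ∈ P)
    (hty : t * y = y * t) (htz : t * z = z * t) (hn : ∀ x ∈ P, t * x * t⁻¹ ∈ P) :
    ∀ x ∈ P, t * x * t⁻¹ * x ∈ zpowers y := by
  have htinv : t⁻¹ = t := inv_eq_of_mul_eq_one_left ht2
  -- the fixed points
  have hfix : ∀ x ∈ P, t * x = x * t → x ∈ zpowers y := by
    have key : P ⊓ centralizer ({t} : Set S) = P ∨ P ⊓ centralizer ({t} : Set S) ≤ zpowers y := by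
      refine D.dich inf_le_left ⟨D.mem, mem_centralizer_singleton_iff.2 hty.symm⟩ ?_
      rintro x ⟨h1, h2⟩
      refine ⟨D.nz x h1, mem_centralizer_singleton_iff.2 ?_⟩
      have h3 := mem_centralizer_singleton_iff.1 h2
      have h4 : z⁻¹ * t = t * z⁻¹ := by
        rw [inv_mul_eq_iff_eq_mul, ← mul_assoc, ← htz, mul_inv_cancel_right]
      calc z * x * z⁻¹ * t = z * x * (z⁻¹ * t) := by group
        _ = z * (x * t) * z⁻¹ := by rw [h4]; group
        _ = (z * t) * x * z⁻¹ := by rw [h3]; group
        _ = t * (z * x * z⁻¹) := by rw [← htz]; group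
    rcases key with h | h
    · exfalso
      apply ht
      apply hself
      intro x hx
      rw [← h] at hx
      exact (mem_centralizer_singleton_iff.1 hx.2).symm
    · intro x hx hxt
      exact h ⟨hx, mem_centralizer_singleton_iff.2 hxt.symm⟩
  -- the quotient
  let Z : Subgroup P := (zpowers y).subgroupOf P
  have hZ : ∀ x : P, x ∈ Z ↔ (x : S) ∈ zpowers y := fun x => mem_subgroupOf
  have hZn : Z.Normal := by
    refine ⟨fun x hx g => ?_⟩
    rw [hZ] at hx ⊢
    show (g : S) * x * (g : S)⁻¹ ∈ zpowers y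
    rw [(D.comm hx g.2).eq, mul_inv_cancel_right]
    exact hx
  let c : P →* P :=
    { toFun := fun x => ⟨t * x * t⁻¹, hn x x.2⟩
      map_one' := Subtype.ext (by show t * 1 * t⁻¹ = 1; group)
      map_mul' := fun x x' => Subtype.ext (by show t * ((x : S) * x') * t⁻¹ = t * x * t⁻¹ * (t * x' * t⁻¹); group) }
  have hct : ∀ {g : S}, g ∈ zpowers y → t * g = g * t := by
    intro g hg
    obtain ⟨i, rfl⟩ := mem_zpowers_iff.1 hg
    exact ((show Commute t y from hty).zpow_right i).eq
  have hcZ : Z ≤ Z.comap c := by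
    intro x hx
    rw [hZ] at hx
    rw [mem_comap, hZ]
    show t * x * t⁻¹ ∈ zpowers y
    rw [hct hx, mul_inv_cancel_right]
    exact hx
  let φ : (P ⧸ Z) →* (P ⧸ Z) := QuotientGroup.map Z Z c hcZ
  have hφ : ∀ x : P, φ (x : P ⧸ Z) = (c x : P ⧸ Z) := fun x => rfl
  have hff : (MonoidHom.FixedPointFree φ :) := by
    intro q hq
    obtain ⟨x, rfl⟩ := QuotientGroup.mk_surjective q
    rw [hφ] at hq
    have h1 := QuotientGroup.eq.1 hq.symm
    rw [hZ] at h1
    have h2 : (x : S)⁻¹ * (t * x * t⁻¹) ∈ zpowers y := h1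
    obtain ⟨d, hd⟩ : ∃ d, d = (x : S)⁻¹ * (t * x * t⁻¹) := ⟨_, rfl⟩
    rw [← hd] at h2
    have h3 : t * x = x * d * t := by rw [hd]; group
    have h4 : (x : S) = x * d * d := by
      calc (x : S) = t * (t * x) * 1 := by rw [← mul_assoc, ht2, one_mul, mul_one]
        _ = t * (x * d * t) * 1 := by rw [h3]
        _ = (t * x) * (d * t) := by group
        _ = (x * d * t) * (t * d) := by rw [h3, hct h2]
        _ = x * d * (t * t) * d := by group
        _ = x * d * d := by rw [ht2, mul_one]
    have h5 : d * d = 1 := by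
      rw [mul_assoc] at h4
      exact (mul_eq_left.1 h4.symm)
    have h6 : d = 1 := by
      have h7 := D.pow_three h2
      rw [pow_succ, pow_two, h5, one_mul] at h7
      exact h7
    rw [QuotientGroup.eq_one_iff, hZ]
    apply hfix x x.2
    rw [h3, h6, mul_one]
  have hinv : Function.Involutive φ := by
    intro q
    obtain ⟨x, rfl⟩ := QuotientGroup.mk_surjective q
    rw [hφ, hφ]
    congr 1
    apply Subtype.ext
    show t * (t * x * t⁻¹) * t⁻¹ = x
    calc t * (t * x * t⁻¹) * t⁻¹ = (t * t) * x * (t * t)⁻¹ := by group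
      _ = x := by rw [ht2, one_mul, inv_one, mul_one]
  have h1 := hff.coe_eq_inv_of_involutive hinv
  intro x hx
  have h2 : φ ((⟨x, hx⟩ : P) : P ⧸ Z) = ((⟨x, hx⟩ : P) : P ⧸ Z)⁻¹ := congrFun h1 _
  rw [hφ] at h2
  have h3 : ((c ⟨x, hx⟩ * ⟨x, hx⟩ : P) : P ⧸ Z) = 1 := by
    rw [QuotientGroup.mk_mul, h2, inv_mul_cancel]
  rw [QuotientGroup.eq_one_iff, hZ] at h3
  exact h3

end Thr

end

/-- a `3`-element whose order is prime to `3` -/
theorem eq_one_of_three {S : Type*} [Group S] {P : Subgroup S} (hP : IsPGroup 3 P) {w : S} (hw : w ∈ P) {n : ℕ}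
    (hn : ¬ 3 ∣ n) (hwn : w ^ n = 1) : w = 1 := by
  obtain ⟨k, hk⟩ := hP ⟨w, hw⟩
  have h1 : w ^ 3 ^ k = 1 := congrArg Subtype.val hk
  have h2 := Nat.dvd_gcd (orderOf_dvd_of_pow_eq_one h1) (orderOf_dvd_of_pow_eq_one hwn)
  rw [Nat.Coprime.pow_left k ((Nat.Prime.coprime_iff_not_dvd Nat.prime_three).2 hn), Nat.dvd_one] at h2
  exact orderOf_eq_one_iff.1 h2

theorem nb_of_inv [hp : Fact (Nat.Prime 3)] {S : Type*} [Group S] [Finite S] [IsSimpleGroup S] (hna : ¬ IsMulCommutative S)
    (ih : IH 3 (Nat.card S)) {y z z' t t' : S} {r a b n : ℕ} (hy : orderOf y = 3) (hr : r.Prime) (hr3 : r ≠ 3)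
    (hz : orderOf z = r) (hz' : orderOf z' = r) (hzy : z * y = y * z) (hzy' : z' * y = y * z')
    (ht2 : t * t = 1) (ht1 : t ≠ 1) (ht2' : t' * t' = 1) (ht1' : t' ≠ 1) (hty : t * y = y * t) (hty' : t' * y = y * t')
    (htz : t * z = z * t) (htz' : t' * z' = z' * t') (hn : ¬ 3 ∣ n) (hw : (t * t') ^ n = 1) (hw1 : t * t' ≠ 1)
    (h9 : ∀ z : S, orderOf z = r → ¬ 9 ∣ Nat.card ↥(centralizer ({z} : Set S)))
    (hb : ¬ 3 ^ (b + 1) ∣ Nat.card S) (hj : ∀ j, 1 ≤ j → j + 1 ≤ b → r ∣ 3 ^ j - 1 → j + 1 = a) (ha : 3 ≤ a) : NB 3 S := by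
  by_contra hnb
  have hy1 : y ≠ 1 := by
    rintro rfl
    rw [orderOf_one] at hy
    norm_num at hy
  obtain ⟨P, hP⟩ := exists_loc hna ih hnb ⟨1, by rw [pow_one, ← hy, pow_orderOf_eq_one]⟩ hy1
  have key : ∀ z : S, orderOf z = r → z * y = y * z → Thr P y z r a := by
    intro z hz hzy
    obtain ⟨m, j, h1, h2, h3, h4, h5⟩ := hP.step hy1 hr hr3 hz hzy
    have h6 : m = 1 := by
      by_contra h6
      apply h9 z hz
      have h7 : Nat.card (P ⊓ centralizer ({z} : Set S) : Subgroup S) ∣ Nat.card ↥(centralizer ({z} : Set S)) :=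
        card_dvd_of_le inf_le_right
      rw [h4] at h7
      exact (pow_dvd_pow 3 (show 2 ≤ m by omega)).trans h7
    subst h6
    have h6 : j + 1 ≤ b := by
      by_contra h7
      apply hb
      refine (pow_dvd_pow 3 (show b + 1 ≤ 1 + j by omega)).trans ?_
      rw [← h3]
      exact card_subgroup_dvd_card _
    have h7 := hj j h2 h6 h5
    exact ⟨by rw [h3, ← h7, add_comm], hy, hP.mem, fun x hx => mem_centralizer_singleton_iff.1 (hP.le hx), hP.norm z hzy,
      hr, hr3, hz, hzy, by rw [h4, pow_one], fun i hi hi2 hi3 => by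
        have := hj i hi (by omega) hi3
        omega, ha⟩
  have D := key z hz hzy
  have D' := key z' hz' hzy'
  have h2n : ¬ 3 ∣ 2 := by norm_num
  have htP : t ∉ P := fun h => ht1 (eq_one_of_three hP.pg h h2n (by rw [pow_two, ht2]))
  have htP' : t' ∉ P := fun h => ht1' (eq_one_of_three hP.pg h h2n (by rw [pow_two, ht2']))
  have i1 := D.inverts ht2 htP hP.self hty htz (hP.norm t hty)
  have i2 := D'.inverts ht2' htP' hP.self hty' htz' (hP.norm t' hty')
  apply hw1
  refine eq_one_of_three hP.pg (hP.self _ fun x hx => ?_) hn hw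
  obtain ⟨c, hc, e⟩ : ∃ c ∈ zpowers y, t * t' * x * (t * t')⁻¹ = c * x := by
    have h1 := i2 x hx
    have hx' := hP.norm t' hty' x hx
    have h2 := i1 _ hx'
    obtain ⟨c₁, e1⟩ : ∃ c, c = t * (t' * x * t'⁻¹) * t⁻¹ * (t' * x * t'⁻¹) := ⟨_, rfl⟩
    obtain ⟨c₂, e2⟩ : ∃ c, c = t' * x * t'⁻¹ * x := ⟨_, rfl⟩
    rw [← e1] at h2
    rw [← e2] at h1
    refine ⟨c₁ * c₂⁻¹, mul_mem h2 (inv_mem h1), ?_⟩
    have h3 : t' * x * t'⁻¹ = c₂ * x⁻¹ := by rw [e2]; group
    have h4 := (D.comm (inv_mem h1) hx).eq
    calc t * t' * x * (t * t')⁻¹ = c₁ * (t' * x * t'⁻¹)⁻¹ := by rw [e1]; group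
      _ = c₁ * (x * c₂⁻¹) := by rw [h3]; group
      _ = c₁ * c₂⁻¹ * x := by rw [h4]; group
  have hwy : Commute (t * t') c := by
    obtain ⟨i, rfl⟩ := mem_zpowers_iff.1 hc
    have h1 : Commute (t * t') y := (show Commute t y from hty).mul_left (show Commute t' y from hty')
    exact h1.zpow_right i
  have hpow : ∀ k : ℕ, (t * t') ^ k * x * ((t * t') ^ k)⁻¹ = c ^ k * x := by
    intro k
    induction k with
    | zero => simp
    | succ k ih =>
      have h1 : (t * t') ^ (k + 1) * x * ((t * t') ^ (k + 1))⁻¹ =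
          (t * t') * ((t * t') ^ k * x * ((t * t') ^ k)⁻¹) * (t * t')⁻¹ := by
        rw [pow_succ' (t * t') k]
        generalize t * t' = w
        group
      rw [h1, ih]
      have h2 := (hwy.pow_right k).eq
      calc t * t' * (c ^ k * x) * (t * t')⁻¹ = (t * t' * c ^ k) * x * (t * t')⁻¹ := by group
        _ = c ^ k * (t * t' * x * (t * t')⁻¹) := by rw [h2]; group
        _ = c ^ k * (c * x) := by rw [e]
        _ = c ^ (k + 1) * x := by rw [pow_succ, mul_assoc]
  have h1 := hpow n
  rw [hw, one_mul, inv_one, mul_one] at h1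
  have h2 : c ^ n = 1 := by
    have : 1 * x = c ^ n * x := by rw [one_mul]; exact h1
    exact (mul_right_cancel this).symm
  have h3 : c = 1 := eq_one_of_three (P := P) hP.pg (D.zle hc) hn h2
  rw [h3, one_mul, mul_inv_eq_iff_eq_mul] at e
  exact e

end Cfsg.Agent.H978.NB
end

-- part: H978/NB/CoTwoData
section
/-!
# S5003: `Co₂`, `p = 3`, the elements (helper978)

`y` in the class 3B, `C(y) = 3 × W(E₆)`; `t`, `t'` commuting reflections, `z`, `z'` elements of order 5 commuting with
them. All fix `leechU`.
-/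

set_option autoImplicit false
set_option maxRecDepth 100000

namespace Cfsg.Agent.H978.NB.CoTwo

open Cfsg Subgroup Cfsg.Agent.SporadicA Cfsg.Agent.SporadicStructure.Co0Matrix Cfsg.Agent.CoOneType.CoEval
open Cfsg.Agent.LThreeCo1.Ev Cfsg.Agent.H573.Spor.Co0

/-- matrix code -/
def nY : ℕ := 0xc4210842108421084210842108421084210842108621084210842108421084210842108431084210842108421084210862108421084210842108421084210842108421084218842108421084210842108421084210c4210842108421084310842108421084210842108421084210c42108421084210842108421084210842108421084210c4210842108421084210843108421084210842108421084218842108421084210843108421084210842108421084210842108421084210842108621084210842108421084210862108421084210862108421084210842108421084210842108421084210842108421084310842188421084210842108421084210842108421084210842108431084210842108421084210c4210842108421084210842108421084210842188421084210842188421084210842108421084210842108421084210842108621084210c421084210842108421084210842108421084210842108421084218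
/-- matrix code -/
def nZ : ℕ := 0xa4210841908421084210842148421484210842108529064214842108421084214832108421084210a42108521084210842108421484190852108429084210842108420c84290852108429083290a421084210842108429084210a4210842908421084210842148420c842108421464210832108421064210842108420ca42108321084210642108421084210842148429083210842908421485210842108421064210852108420c852108421084210a421085210842108421085290a420c842108421064210842908421084210842148421485290a42108421084210841908421085190a421084210842108429084210842108421083290a42148421084210842108421084214842908521084190852906421084210842108429084210842108420c64210852108421064210842108420c642108321084210a421084214852108421084210a421083210842108421085190a42148421084210a42108429084210842108420c84214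
/-- matrix code -/
def nT : ℕ := 0xc421084210842108421084210842108221084210842108421084210842108411084210842108421084210842108420884210842108421084210842108421044210842108421084210842108421082210842108421084210842108421084310842108421084210842108421084218842108421084210842108421084210c42108421084210842108421084210822108421084210842108421084210841108421084210842108421084210842088421084210842108421084210842104421084210842108421084210842108621084210842108421084210842108411084210842108421084210842108420884210842108421084210842108421044210842108421084210842108421082210842108421084210842108421084110842108421084210842108421084218842108421084210842108421084210c4210842108421084210842108421082210842108421084210842108421084110842108421084210842108421084218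
/-- matrix code -/
def nZ2 : ℕ := 0xa421084190842108421084210852148421084210852108421084190a42908421084210832108421084290a4290842148321084210842106420c842108421084210852108421084290642908420c8521084210842106420c84210a4210842908421084210842108520c84290842108419485210842108421084290842108428c85210842108421084210a42148421064290842108421084210a421484210a419084210842108321084210a4210842148521084210842106421484210a429084210842108429084210842948321084210842108521084210a421084214832108421084210a420c84210a429084210842108420c832108421084210a420c842108521084210a42108420c85210842108421084210852108421084290a41906421084290842108421084210852148419084210842948521084210842108420c8321084210842106421484210852108421064210842148521084210a42108429084210842108421083214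
/-- matrix code -/
def nT2 : ℕ := 0xc4210842108421084210842108421082210842108421084210842108421084110842108421084210842108421084218842108421084210842108421084210442108421084210842108421084210862108421084210842108421084210843108421084210842108421084210842088421084210842108421084210842104421084210842108421084210842108221084210842108421084210842108411084210842108421084210842108420884210842108421084210842108421044210842108421084210842108421082210842108421084210842108421084110842108421084210842108421084208842108421084210842108421084210c421084210842108421084210842108221084210842108421084210842108411084210842108421084210842108421884210842108421084210842108421044210842108421084210842108421086210842108421084210842108421084110842108421084210842108421084218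

theorem okY : okN nY = true := Cfsg.Agent.Co0Q.okz_of (by decide +kernel)
theorem okZ : okN nZ = true := Cfsg.Agent.Co0Q.okz_of (by decide +kernel)
theorem okT : okN nT = true := Cfsg.Agent.Co0Q.okz_of (by decide +kernel)
theorem okZ2 : okN nZ2 = true := Cfsg.Agent.Co0Q.okz_of (by decide +kernel)
theorem okT2 : okN nT2 = true := Cfsg.Agent.Co0Q.okz_of (by decide +kernel)

/-- order 3 -/
def gY : Co0 := _root_.Cfsg.Agent.SporadicStructure.Co0Matrix.mk (ok_of_okN okY)
theorem repY : _root_.Cfsg.Agent.CoOneType.CoEval.Rep gY (dec nY) := rep_mk _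
/-- order 5 -/
def gZ : Co0 := _root_.Cfsg.Agent.SporadicStructure.Co0Matrix.mk (ok_of_okN okZ)
theorem repZ : _root_.Cfsg.Agent.CoOneType.CoEval.Rep gZ (dec nZ) := rep_mk _
/-- an involution -/
def gT : Co0 := _root_.Cfsg.Agent.SporadicStructure.Co0Matrix.mk (ok_of_okN okT)
theorem repT : _root_.Cfsg.Agent.CoOneType.CoEval.Rep gT (dec nT) := rep_mk _
/-- order 5 -/
def gZ2 : Co0 := _root_.Cfsg.Agent.SporadicStructure.Co0Matrix.mk (ok_of_okN okZ2)
theorem repZ2 : _root_.Cfsg.Agent.CoOneType.CoEval.Rep gZ2 (dec nZ2) := rep_mk _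
/-- an involution -/
def gT2 : Co0 := _root_.Cfsg.Agent.SporadicStructure.Co0Matrix.mk (ok_of_okN okT2)
theorem repT2 : _root_.Cfsg.Agent.CoOneType.CoEval.Rep gT2 (dec nT2) := rep_mk _

/-- the elements -/
def e : ℕ → Co0
  | 0 => gY
  | 1 => gZ
  | 2 => gT
  | 3 => gZ2
  | _ => gT2

/-- their matrices -/
def Ms : ℕ → List (List ℤ)
  | 0 => dec nY
  | 1 => dec nZ
  | 2 => dec nT
  | 3 => dec nZ2
  | _ => dec nT2

theorem hM : ∀ i, _root_.Cfsg.Agent.CoOneType.CoEval.Rep (e i) (Ms i)
  | 0 => repY
  | 1 => repZ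
  | 2 => repT
  | 3 => repZ2
  | _ + 4 => repT2

theorem memY : gY.1 ∈ Spor.Co2 := mem_Co2 repY (by decide +kernel)
theorem memZ : gZ.1 ∈ Spor.Co2 := mem_Co2 repZ (by decide +kernel)
theorem memT : gT.1 ∈ Spor.Co2 := mem_Co2 repT (by decide +kernel)
theorem memZ2 : gZ2.1 ∈ Spor.Co2 := mem_Co2 repZ2 (by decide +kernel)
theorem memT2 : gT2.1 ∈ Spor.Co2 := mem_Co2 repT2 (by decide +kernel)

theorem y3 : gY ^ 3 = 1 := by
  have h := eq_of_eqB hM (w := [0, 0, 0]) (w' := []) (by decide +kernel)
  simpa only [e, pow_succ, mul_assoc, _root_.pow_zero, _root_.one_mul, _root_.List.map_cons, _root_.List.map_nil, _root_.List.prod_cons, _root_.List.prod_nil, _root_.mul_one] using h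

theorem y1 : gY ≠ 1 := by
  have h := ne_of_neB' hM (w := [0]) (w' := []) (by decide +kernel)
  simpa [e] using h

theorem z5 : gZ ^ 5 = 1 := by
  have h := eq_of_eqB hM (w := [1, 1, 1, 1, 1]) (w' := []) (by decide +kernel)
  simpa only [e, pow_succ, mul_assoc, _root_.pow_zero, _root_.one_mul, _root_.List.map_cons, _root_.List.map_nil, _root_.List.prod_cons, _root_.List.prod_nil, _root_.mul_one] using h

theorem z1 : gZ ≠ 1 := by
  have h := ne_of_neB' hM (w := [1]) (w' := []) (by decide +kernel)
  simpa [e] using h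

theorem z5' : gZ2 ^ 5 = 1 := by
  have h := eq_of_eqB hM (w := [3, 3, 3, 3, 3]) (w' := []) (by decide +kernel)
  simpa only [e, pow_succ, mul_assoc, _root_.pow_zero, _root_.one_mul, _root_.List.map_cons, _root_.List.map_nil, _root_.List.prod_cons, _root_.List.prod_nil, _root_.mul_one] using h

theorem z1' : gZ2 ≠ 1 := by
  have h := ne_of_neB' hM (w := [3]) (w' := []) (by decide +kernel)
  simpa [e] using h

theorem t2 : gT * gT = 1 := by
  have h := eq_of_eqB hM (w := [2, 2]) (w' := []) (by decide +kernel)
  simpa only [e, _root_.List.map_cons, _root_.List.map_nil, _root_.List.prod_cons, _root_.List.prod_nil, _root_.mul_one] using h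

theorem t1 : gT ≠ 1 := by
  have h := ne_of_neB' hM (w := [2]) (w' := []) (by decide +kernel)
  simpa [e] using h

theorem t2' : gT2 * gT2 = 1 := by
  have h := eq_of_eqB hM (w := [4, 4]) (w' := []) (by decide +kernel)
  simpa only [e, _root_.List.map_cons, _root_.List.map_nil, _root_.List.prod_cons, _root_.List.prod_nil, _root_.mul_one] using h

theorem t1' : gT2 ≠ 1 := by
  have h := ne_of_neB' hM (w := [4]) (w' := []) (by decide +kernel)
  simpa [e] using h

theorem zy : gZ * gY = gY * gZ := by
  have h := eq_of_eqB hM (w := [1, 0]) (w' := [0, 1]) (by decide +kernel)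
  simpa only [e, _root_.List.map_cons, _root_.List.map_nil, _root_.List.prod_cons, _root_.List.prod_nil, _root_.mul_one] using h

theorem zy' : gZ2 * gY = gY * gZ2 := by
  have h := eq_of_eqB hM (w := [3, 0]) (w' := [0, 3]) (by decide +kernel)
  simpa only [e, _root_.List.map_cons, _root_.List.map_nil, _root_.List.prod_cons, _root_.List.prod_nil, _root_.mul_one] using h

theorem ty : gT * gY = gY * gT := by
  have h := eq_of_eqB hM (w := [2, 0]) (w' := [0, 2]) (by decide +kernel)
  simpa only [e, _root_.List.map_cons, _root_.List.map_nil, _root_.List.prod_cons, _root_.List.prod_nil, _root_.mul_one] using h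

theorem ty' : gT2 * gY = gY * gT2 := by
  have h := eq_of_eqB hM (w := [4, 0]) (w' := [0, 4]) (by decide +kernel)
  simpa only [e, _root_.List.map_cons, _root_.List.map_nil, _root_.List.prod_cons, _root_.List.prod_nil, _root_.mul_one] using h

theorem tz : gT * gZ = gZ * gT := by
  have h := eq_of_eqB hM (w := [2, 1]) (w' := [1, 2]) (by decide +kernel)
  simpa only [e, _root_.List.map_cons, _root_.List.map_nil, _root_.List.prod_cons, _root_.List.prod_nil, _root_.mul_one] using h

theorem tz' : gT2 * gZ2 = gZ2 * gT2 := by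
  have h := eq_of_eqB hM (w := [4, 3]) (w' := [3, 4]) (by decide +kernel)
  simpa only [e, _root_.List.map_cons, _root_.List.map_nil, _root_.List.prod_cons, _root_.List.prod_nil, _root_.mul_one] using h

theorem tt : (gT * gT2) ^ 2 = 1 := by
  have h := eq_of_eqB hM (w := [2, 4, 2, 4]) (w' := []) (by decide +kernel)
  simpa only [e, pow_two, mul_assoc, _root_.List.map_cons, _root_.List.map_nil, _root_.List.prod_cons, _root_.List.prod_nil, _root_.mul_one] using h

theorem tt1 : gT * gT2 ≠ 1 := by
  have h := ne_of_neB' hM (w := [2, 4]) (w' := []) (by decide +kernel)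
  simpa only [e, _root_.ne_eq, _root_.List.map_cons, _root_.List.map_nil, _root_.List.prod_cons, _root_.List.prod_nil, _root_.mul_one] using h

end Cfsg.Agent.H978.NB.CoTwo
end

-- part: H978/NB/CoTwo
section
/-!
# S5003: `Co₂`, `p = 3` (helper978)
-/

set_option autoImplicit false
set_option maxRecDepth 100000

namespace Cfsg.Agent.H978.NB.CoTwo

open Cfsg Subgroup Cfsg.Agent.SporadicA Cfsg.Agent.SporadicStructure.Co0Matrix Cfsg.Agent.CoOneType.CoEval
open Cfsg.Agent.LThreeCo1.Ev Cfsg.Agent.H573.Spor.Co0 Cfsg.Agent.H7.NBp Cfsg.Agent.H718.NBIH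

/-! ### `|C(z)|` -/

theorem leechU_ne : Spor.leechU ≠ 0 := by
  intro h
  have h1 := congrArg (fun v : leechLattice => (v : GolayPt → ℤ) none) h
  have h2 : Spor.vecU none = 0 := h1
  simp [Spor.vecU] at h2

theorem not_nine {z : Spor.Co2} (hz : orderOf z = 5) : ¬ 9 ∣ Nat.card ↥(centralizer ({z} : Set Spor.Co2)) := by
  have hfin : Finite Spor.Co2 := Nat.finite_of_card_ne_zero (by rw [Cfsg.Agent.NotCT.Orders.co2 ⟨MulEquiv.refl _⟩]; norm_num)
  refine Cfsg.Agent.H143.LeechNine.not_nine (v := Spor.leechU)
    (φ := (Subgroup.inclusion (inf_le_left : Spor.Co2 ≤ Co0)).comp (centralizer ({z} : Set Spor.Co2)).subtype)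
    (x := ⟨z, mem_centralizer_singleton_iff.2 rfl⟩) (r := 5) ?_ leechU_ne (fun h => h.1.2.2) ?_ ?_ ?_
  · exact (Subgroup.inclusion_injective (inf_le_left : Spor.Co2 ≤ Co0)).comp (Subgroup.subtype_injective _)
  · exact Or.inl rfl
  · rw [Subgroup.orderOf_mk, hz]
  · intro g
    exact Subtype.ext (mem_centralizer_singleton_iff.1 g.2)

theorem ord {n : ℕ} [Fact n.Prime] {g : Co0} (h : g.1 ∈ Spor.Co2) (hn : g ^ n = 1) (h1 : g ≠ 1) :
    orderOf (⟨g.1, h⟩ : Spor.Co2) = n := by
  rw [Subgroup.orderOf_mk, Subgroup.orderOf_coe]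
  exact orderOf_eq_prime hn h1

theorem ext_co2 {a b : Spor.Co2} {g g' : Co0} (ha : a.1 = g.1) (hb : b.1 = g'.1) (h : g = g') : a = b :=
  Subtype.ext (by rw [ha, hb, h])

theorem nb_three [IsSimpleGroup Spor.Co2] [Finite Spor.Co2] [Fact (Nat.Prime 3)] (ih : IH 3 (Nat.card Spor.Co2))
    (hna : ¬ IsMulCommutative Spor.Co2) : NB 3 Spor.Co2 := by
  have f5 : Fact (Nat.Prime 5) := ⟨Nat.prime_five⟩
  have hc : Nat.card Spor.Co2 = 42305421312000 := Cfsg.Agent.NotCT.Orders.co2 ⟨MulEquiv.refl _⟩
  have hne : ∀ {g : Co0} (h : g.1 ∈ Spor.Co2), g ≠ 1 → (⟨g.1, h⟩ : Spor.Co2) ≠ 1 := fun h h1 h2 =>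
    h1 (Subtype.ext (congrArg (fun a : Spor.Co2 => a.1) h2))
  have hcm : ∀ {g g' : Co0} (h : g.1 ∈ Spor.Co2) (h' : g'.1 ∈ Spor.Co2), g * g' = g' * g →
      (⟨g.1, h⟩ : Spor.Co2) * ⟨g'.1, h'⟩ = ⟨g'.1, h'⟩ * ⟨g.1, h⟩ := fun h h' e =>
    ext_co2 (g := _ * _) (g' := _ * _) rfl rfl e
  refine nb_of_inv (y := ⟨gY.1, memY⟩) (z := ⟨gZ.1, memZ⟩) (z' := ⟨gZ2.1, memZ2⟩) (t := ⟨gT.1, memT⟩)
    (t' := ⟨gT2.1, memT2⟩) (r := 5) (a := 5) (b := 6) (n := 2) hna ih (ord _ y3 y1) (by norm_num) (by norm_num)
    (ord _ z5 z1) (ord _ z5' z1') (hcm _ _ zy) (hcm _ _ zy') (ext_co2 (g := gT * gT) (g' := 1) rfl rfl t2) (hne _ t1)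
    (ext_co2 (g := gT2 * gT2) (g' := 1) rfl rfl t2') (hne _ t1') (hcm _ _ ty) (hcm _ _ ty') (hcm _ _ tz) (hcm _ _ tz')
    (by norm_num) (ext_co2 (g := (gT * gT2) ^ 2) (g' := 1) rfl rfl tt) ?_ (fun z hz => not_nine hz) (by rw [hc]; norm_num) ?_ (by norm_num)
  · intro h
    exact tt1 (Subtype.ext (congrArg (fun a : Spor.Co2 => a.1) h))
  · intro j h1 h2 h3
    have h4 : j < 6 := by omega
    clear h2
    interval_cases j
    · norm_num at h3
    · norm_num at h3
    · norm_num at h3
    · rfl
    · norm_num at h3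

/-- the row for `p = 3` -/
theorem nb_co2_three [Fact (Nat.Prime 3)] (S : Type) [Group S] [Finite S] [IsSimpleGroup S] (h : Spor.IsoCo2 S)
    (ih : IH 3 (Nat.card S)) : NB 3 S := by
  have hc := Cfsg.Agent.NotCT.Orders.co2 h
  obtain ⟨f⟩ := h
  have hs : IsSimpleGroup Spor.Co2 := f.symm.isSimpleGroup
  have hfin : Finite Spor.Co2 := Finite.of_equiv S f.toEquiv
  have hcc : Nat.card S = Nat.card Spor.Co2 := Nat.card_congr f.toEquiv
  refine NB.iso f.symm (nb_three (by rw [← hcc]; exact ih) ?_)
  intro hm
  let _ : CommGroup Spor.Co2 := { (inferInstance : Group Spor.Co2) with mul_comm := hm.is_comm.comm }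
  have h3 : (Nat.card Spor.Co2).Prime := IsSimpleGroup.prime_card
  rw [← hcc, hc] at h3
  norm_num at h3

end Cfsg.Agent.H978.NB.CoTwo
end

private theorem dce_ce861afd24e1 : _root_.True := by
  try have : _root_.True := by simp only [_root_.Cfsg.Agent.H978.NB.CoTwo.e.eq_2]
  try have : _root_.True := by simp only [_root_.Cfsg.Agent.H978.NB.CoTwo.e.eq_5]
  try have : _root_.True := by simp only [_root_.Cfsg.Agent.H978.NB.CoTwo.e.eq_4]
  try have : _root_.True := by simp only [_root_.Cfsg.Agent.H978.NB.CoTwo.e.eq_1]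
  try have : _root_.True := by simp only [_root_.Cfsg.Agent.H978.NB.CoTwo.e.eq_3]
  exact _root_.True.intro
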